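import Groth.Agent.Lib.ExtPowX.SesAlg
import Mathlib

/-!
# The top exterior power of the quotient in a split exact sequence of free modules
-/

universe u v

open TensorProduct

namespace GrothLib.SplitDet1

open GrothLib.ExtPowX

variable {A : Type u} [CommRing A] {N M Q : Type v} [AddCommGroup N] [Module A N] [AddCommGroup M]
  [Module A M] [AddCommGroup Q] [Module A Q]

theorem smul_eq_zero_of_le {c : A} {l : ℕ} (hc : ∀ y : ⋀[A]^l Q, c • y = 0) :
    ∀ l', l ≤ l' → ∀ y : ⋀[A]^l' Q, c • y = 0 := by
  intro l' hl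
  induction l', hl using Nat.le_induction with
  | base => exact hc
  | succ m _ ih =>
    intro y
    have hy : y ∈ Submodule.span A (Set.range (exteriorPower.ιMulti A (m + 1) (M := Q))) := by
      rw [exteriorPower.ιMulti_span]; exact Submodule.mem_top
    induction hy using Submodule.span_induction with
    | zero => exact smul_zero _
    | add a b _ _ ha hb => rw [smul_add, ha, hb, add_zero]
    | smul d a _ ha => rw [smul_comm, ha, smul_zero]
    | mem a ha =>
      obtain ⟨v, rfl⟩ := ha
      refine Subtype.ext ?_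
      have h := congrArg Subtype.val (ih (exteriorPower.ιMulti A m (Matrix.vecTail v)))
      simp only [SetLike.val_smul, exteriorPower.ιMulti_apply_coe, ZeroMemClass.coe_zero] at h ⊢
      rw [ExteriorAlgebra.ιMulti_succ_apply, ← mul_smul_comm, h, mul_zero]

/-- In a split exact sequence `0 → N → M → Q → 0` with `N`, `M` free of ranks `r`, `r + l`,
the module `⋀^l Q` is free of rank one. -/
theorem nonempty_equiv (f : N →ₗ[A] M) (q : M →ₗ[A] Q) (rt : M →ₗ[A] N) (s : Q →ₗ[A] M)
    (hr : ∀ x, rt (f x) = x) (hqf : q ∘ₗ f = 0) (hqs : ∀ x, q (s x) = x)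
    (hs : ∀ m, m - s (q m) ∈ LinearMap.range f) {r l n : ℕ} (hn : r + l = n)
    (eN : (⋀[A]^r N) ≃ₗ[A] A) (eM : A ≃ₗ[A] ⋀[A]^n M) (hN : ∀ j, r < j → Subsingleton (⋀[A]^j N)) :
    Nonempty (A ≃ₗ[A] ⋀[A]^l Q) := by
  let θ : (⋀[A]^r N) ⊗[A] (⋀[A]^l Q) ≃ₗ[A] ⋀[A]^l Q :=
    (TensorProduct.congr eN (LinearEquiv.refl A _)).trans (TensorProduct.lid A _)
  let g : A →ₗ[A] ⋀[A]^l Q := θ.toLinearMap ∘ₗ Ses.retr q rt r l n ∘ₗ eM.toLinearMap
  have hsurj : Function.Surjective g := by
    intro y
    obtain ⟨w, hw⟩ : ∃ w, Ses.rho q r l w = θ.symm y :=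
      TensorProduct.map_surjective Function.surjective_id
        (exteriorPower.map_surjective (fun x => ⟨s x, hqs x⟩)) (θ.symm y)
    refine ⟨eM.symm (Ses.mu f hn w), ?_⟩
    simp only [g, LinearMap.comp_apply, LinearEquiv.coe_coe, LinearEquiv.apply_symm_apply, Ses.retr_mu hr hqf, hw]
  refine ⟨LinearEquiv.ofBijective g ⟨(injective_iff_map_eq_zero g).2 fun c hc => ?_, hsurj⟩⟩
  have hkill : ∀ y : ⋀[A]^l Q, c • y = 0 := fun y => by
    obtain ⟨d, rfl⟩ := hsurj y
    rw [← map_smul, smul_eq_mul, mul_comm, ← smul_eq_mul, map_smul, hc, smul_zero]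
  rcases Nat.eq_zero_or_pos l with rfl | hl
  · have := congrArg (exteriorPower.zeroEquiv A Q) (hkill ((exteriorPower.zeroEquiv A Q).symm 1))
    rwa [map_smul, LinearEquiv.apply_symm_apply, map_zero, smul_eq_mul, mul_one] at this
  have key : ∀ d j, j + d = n + 1 → ∀ z ∈ Ses.filt f j n, c • z = 0 := by
    intro d
    induction d with
    | zero =>
      intro j hj z hz
      rw [Ses.filt_of_lt f (show n < j by omega)] at hz
      rw [(Submodule.mem_bot A).1 hz, smul_zero]
    | succ d ih =>
      intro j hj z hz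
      obtain ⟨w, rfl⟩ := Ses.exists_mu f (show j + d = n by omega) hz
      rcases Nat.lt_or_ge r j with hrj | hrj
      · have := hN j hrj
        rw [Subsingleton.elim w 0, map_zero, smul_zero]
      obtain ⟨d', rfl⟩ : ∃ d', d = d' + 1 := ⟨d - 1, by omega⟩
      have h0 := ih (j + 1) (by omega) _ (Ses.sub_mu_mem f q s hs (by omega) w)
      have h1 : ∀ t : (⋀[A]^j N) ⊗[A] (⋀[A]^(d' + 1) Q), c • t = 0 := by
        intro t
        induction t using TensorProduct.induction_on with
        | zero => exact smul_zero _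
        | add a b ha hb => rw [smul_add, ha, hb, add_zero]
        | tmul a b => rw [← TensorProduct.tmul_smul, smul_eq_zero_of_le hkill _ (by omega), tmul_zero]
      rwa [smul_sub, ← map_smul _ c (TensorProduct.map _ _ _), ← map_smul _ c (Ses.rho q j (d' + 1) w), h1,
        map_zero, map_zero, sub_zero] at h0
  have h := key (n + 1) 0 (zero_add _) (eM 1) (by rw [Ses.filt_zero]; trivial)
  rw [← map_smul, ← map_zero eM] at h
  simpa using eM.injective h

/-- The exterior powers beyond the rank vanish. -/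
theorem subsingleton_of_rank_lt {r j : ℕ} (b : Module.Basis (Fin r) A N) (h : r < j) :
    Subsingleton (⋀[A]^j N) := by
  haveI : IsEmpty (Set.powersetCard (Fin r) j) := ⟨fun s => by
    have h1 := Finset.card_le_univ s.1
    have h2 : s.1.card = j := s.2
    simp only [Fintype.card_fin] at h1
    omega⟩
  exact (b.exteriorPower j).repr.injective.subsingleton

end GrothLib.SplitDet1
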