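import Groth.Agent.Lib.KoszulFwd
import Groth.Agent.Lib.LCI6.Cancel
import Mathlib

/-!
# The conormal module of an ideal generated by a weakly regular sequence is free
-/

universe u

open TensorProduct

namespace GrothLib.SplitDet1

variable {P : Type u} [CommRing P] {c : ℕ} (F : Fin c → P)

theorem cotangent_basis (h : RingTheory.Sequence.IsWeaklyRegular P (List.ofFn F)) :
    LinearIndependent (P ⧸ Ideal.span (Set.range F))
        (fun i : Fin c => (Ideal.span (Set.range F)).toCotangent ⟨F i, Ideal.subset_span (Set.mem_range_self i)⟩) ∧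
      Submodule.span (P ⧸ Ideal.span (Set.range F)) (Set.range
        (fun i : Fin c => (Ideal.span (Set.range F)).toCotangent
          ⟨F i, Ideal.subset_span (Set.mem_range_self i)⟩)) = ⊤ := by
  let J := Ideal.span (Set.range F)
  let b : Fin c → J := fun i => ⟨F i, Ideal.subset_span (Set.mem_range_self i)⟩
  have hH1 := GrothLib.LCI6.isH1Regular_ofFn F (GrothLib.KoszulFwd.isKoszulRegularSeq_of_isWeaklyRegular _ h)
  refine ⟨?_, ?_⟩
  · rw [Fintype.linearIndependent_iff]
    intro g hg i
    choose t ht using fun i => Ideal.Quotient.mk_surjective (g i)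
    have hsum : J.toCotangent (∑ i, t i • b i) = 0 := by
      rw [map_sum, ← hg]
      refine Finset.sum_congr rfl fun j _ => ?_
      rw [map_smul, ← ht j]
      rfl
    rw [Ideal.toCotangent_eq_zero, AddSubmonoidClass.coe_finset_sum] at hsum
    have hsq : ∑ i, t i * F i ∈ J * J := by rw [← pow_two]; simpa [b] using hsum
    have hexp : ∀ z ∈ J * J, ∃ j : Fin c → P, (∀ i, j i ∈ J) ∧ z = ∑ i, j i * F i := by
      intro z hz
      induction hz using Submodule.mul_induction_on' with
      | mem_mul_mem u hu v hv =>
        obtain ⟨w, hw⟩ := (Ideal.mem_span_range_iff_exists_fun).mp hv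
        refine ⟨fun i => u * w i, fun i => Ideal.mul_mem_right _ _ hu, ?_⟩
        rw [← hw, Finset.mul_sum]
        simp [mul_assoc]
      | add u _ v _ hu hv =>
        obtain ⟨j, hj, rfl⟩ := hu
        obtain ⟨j', hj', rfl⟩ := hv
        exact ⟨j + j', fun i => add_mem (hj i) (hj' i), by simp [add_mul, Finset.sum_add_distrib]⟩
    obtain ⟨j, hj, hje⟩ := hexp _ hsq
    have hrel : ∑ i, (t i - j i) * F i = 0 := by
      simp [sub_mul, Finset.sum_sub_distrib, hje]
    have hmem : ∀ v ∈ Submodule.span (P)
        {v : Fin c → P | ∃ i j : Fin c, v = Pi.single i (F j) - Pi.single j (F i)},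
        ∀ i, v i ∈ J := by
      intro v hv
      induction hv using Submodule.span_induction with
      | mem v hv =>
        obtain ⟨a, a', rfl⟩ := hv
        intro i
        refine sub_mem ?_ ?_
        · by_cases hi : i = a
          · subst hi; rw [Pi.single_eq_same]; exact Ideal.subset_span ⟨a', rfl⟩
          · rw [Pi.single_eq_of_ne hi]; exact J.zero_mem
        · by_cases hi : i = a'
          · subst hi; rw [Pi.single_eq_same]; exact Ideal.subset_span ⟨a, rfl⟩
          · rw [Pi.single_eq_of_ne hi]; exact J.zero_mem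
      | zero => exact fun i => J.zero_mem
      | add _ _ _ _ ha hb => exact fun i => add_mem (ha i) (hb i)
      | smul r _ _ ha => exact fun i => J.smul_mem r (ha i)
    rw [← ht i, Ideal.Quotient.eq_zero_iff_mem]
    simpa using add_mem (hmem _ (hH1 _ hrel) i) (hj i)
  · rw [eq_top_iff]
    intro z _
    obtain ⟨⟨y, hy⟩, rfl⟩ := J.toCotangent_surjective z
    obtain ⟨w, hw⟩ := (Ideal.mem_span_range_iff_exists_fun).mp hy
    have : (⟨y, hy⟩ : J) = ∑ i, w i • b i := Subtype.ext (by
      rw [AddSubmonoidClass.coe_finsetSum]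
      show y = _
      rw [← hw]
      simp [b])
    rw [this, map_sum]
    refine Submodule.sum_mem _ fun i _ => ?_
    rw [map_smul]
    exact Submodule.smul_mem (Submodule.span (P ⧸ J) (Set.range fun i => J.toCotangent (b i)))
      (Ideal.Quotient.mk J (w i)) (Submodule.subset_span (Set.mem_range_self i))

end GrothLib.SplitDet1
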